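import Mathlib.AlgebraicGeometry.Morphisms.Affine
import Mathlib.AlgebraicGeometry.Morphisms.FinitePresentation
import Mathlib.RingTheory.Ideal.Maximal

/-!
# Functions on affine fibre products
-/

set_option autoImplicit false
universe u

open CategoryTheory CategoryTheory.Limits AlgebraicGeometry

namespace Groth.AlgSp2.SepClosed

noncomputable section

/-- A pushout of rings is generated by the images of the two factors. -/
theorem closure_eq_top_of_isPushout {R C A B : CommRingCat.{u}} {f : R ⟶ C} {g : R ⟶ A}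
    {inl : C ⟶ B} {inr : A ⟶ B} (h : IsPushout f g inl inr) :
    Subring.closure (Set.range inl.hom ∪ Set.range inr.hom) = ⊤ := by
  let B' := Subring.closure (Set.range inl.hom ∪ Set.range inr.hom)
  let l : C ⟶ CommRingCat.of B' :=
    CommRingCat.ofHom (inl.hom.codRestrict B' fun c => Subring.subset_closure (Or.inl ⟨c, rfl⟩))
  let r : A ⟶ CommRingCat.of B' :=
    CommRingCat.ofHom (inr.hom.codRestrict B' fun c => Subring.subset_closure (Or.inr ⟨c, rfl⟩))
  let i : CommRingCat.of B' ⟶ B := CommRingCat.ofHom B'.subtype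
  have hw : f ≫ l = g ≫ r :=
    CommRingCat.hom_ext (RingHom.ext fun x =>
      Subtype.ext (ConcreteCategory.congr_hom h.w x :))
  have hd : h.desc l r hw ≫ i = 𝟙 B := by
    apply h.hom_ext
    · rw [h.inl_desc_assoc, Category.comp_id]; rfl
    · rw [h.inr_desc_assoc, Category.comp_id]; rfl
  refine eq_top_iff.2 fun b _ => ?_
  have := ConcreteCategory.congr_hom hd b
  rw [← show i (h.desc l r hw b) = b from this]
  exact (h.desc l r hw b).2

theorem exists_finset_mem_closure {B : Type u} {A : Type u} [CommRing B] (s : Set B) (r : A → B)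
    {b : B} (hb : b ∈ Subring.closure (s ∪ Set.range r)) :
    ∃ F : Finset A, b ∈ Subring.closure (s ∪ r '' F) := by
  classical
  have mono : ∀ {F G : Finset A}, F ⊆ G →
      Subring.closure (s ∪ r '' F) ≤ Subring.closure (s ∪ r '' G) := fun hFG =>
    Subring.closure_mono (Set.union_subset_union_right _ (Set.image_mono (Finset.coe_subset.2 hFG)))
  induction hb using Subring.closure_induction with
  | mem x hx =>
    rcases hx with hx | ⟨a, rfl⟩
    · exact ⟨∅, Subring.subset_closure (Or.inl hx)⟩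
    · exact ⟨{a}, Subring.subset_closure (Or.inr ⟨a, by simp, rfl⟩)⟩
  | zero => exact ⟨∅, zero_mem _⟩
  | one => exact ⟨∅, one_mem _⟩
  | add x y _ _ hx hy =>
    obtain ⟨F, hF⟩ := hx; obtain ⟨G, hG⟩ := hy
    exact ⟨F ∪ G, add_mem (mono Finset.subset_union_left hF) (mono Finset.subset_union_right hG)⟩
  | neg x _ hx => obtain ⟨F, hF⟩ := hx; exact ⟨F, neg_mem hF⟩
  | mul x y _ _ hx hy =>
    obtain ⟨F, hF⟩ := hx; obtain ⟨G, hG⟩ := hy
    exact ⟨F ∪ G, mul_mem (mono Finset.subset_union_left hF) (mono Finset.subset_union_right hG)⟩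

/-- A closed set which misses a fibre is separated from it by one element. -/
theorem exists_separating {A B : Type u} [CommRing A] [CommRing B] (φ : A →+* B)
    (p : Ideal A) [p.IsPrime] (T : Set (PrimeSpectrum B)) (hT : IsClosed T)
    (h : ∀ q ∈ T, q.asIdeal.comap φ ≠ p) :
    ∃ j : B, (∀ q ∈ T, j ∈ q.asIdeal) ∧
      ∀ q : PrimeSpectrum B, q.asIdeal.comap φ = p → j ∉ q.asIdeal := by
  classical
  obtain ⟨J, rfl⟩ : ∃ J : Ideal B, T = PrimeSpectrum.zeroLocus (J : Set B) :=
    ⟨PrimeSpectrum.vanishingIdeal T, by rw [PrimeSpectrum.zeroLocus_vanishingIdeal_eq_closure, hT.closure_eq]⟩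
  let M : Submonoid B := p.primeCompl.map φ.toMonoidHom
  have hne : ¬ Disjoint ((J ⊔ p.map φ : Ideal B) : Set B) M := fun hd => by
    obtain ⟨q, hq, hle, hdq⟩ := Ideal.exists_le_prime_disjoint _ M hd
    refine h ⟨q, hq⟩ ((le_sup_left.trans hle : J ≤ q)) (le_antisymm (fun x hx => ?_) ?_)
    · by_contra hxp
      exact Set.disjoint_left.1 hdq hx ⟨x, hxp, rfl⟩
    · exact Ideal.map_le_iff_le_comap.1 (le_sup_right.trans hle)
  obtain ⟨x, hx, s, hs, rfl⟩ := Set.not_disjoint_iff.1 hne
  obtain ⟨j, hj, m, hm, e⟩ := Submodule.mem_sup.1 hx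
  refine ⟨j, fun q hq => hq hj, fun q hq hjq => hs ?_⟩
  rw [← hq]
  show φ s ∈ q.asIdeal
  have hmq : m ∈ q.asIdeal := Ideal.map_le_iff_le_comap.2 hq.ge hm
  have : φ s = j + m := e.symm
  rw [this]
  exact add_mem hjq hmq

variable {W V U : Scheme.{u}} [IsAffine W] [IsAffine V] [IsAffine U] (ρ : W ⟶ U) (m : V ⟶ U)

/-- A function on an affine fibre product comes from a finitely presented stage. -/
theorem exists_stage {P : Scheme.{u}} {fst : P ⟶ W} {snd : P ⟶ V} (sq : IsPullback fst snd ρ m)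
    (b : Γ(P, ⊤)) :
    ∃ (Z : Scheme.{u}) (_ : IsAffine Z) (z : Z ⟶ U) (_ : LocallyOfFinitePresentation z)
      (a : V ⟶ Z) (ha : a ≫ z = m) (b₀ : Γ(pullback ρ z, ⊤)),
      (pullback.lift fst (snd ≫ a) (by rw [Category.assoc, ha, sq.w]) : P ⟶ pullback ρ z).appTop b₀ = b := by
  classical
  have htop := closure_eq_top_of_isPushout (isPushout_appTop_of_isPullback sq)
  obtain ⟨F, hF⟩ := exists_finset_mem_closure (Set.range fst.appTop.hom) snd.appTop.hom
    (show b ∈ Subring.closure _ from htop ▸ Subring.mem_top b)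
  let : Algebra Γ(U, ⊤) Γ(V, ⊤) := m.appTop.hom.toAlgebra
  let Q := MvPolynomial {x // x ∈ F} Γ(U, ⊤)
  let ι : Γ(U, ⊤) ⟶ CommRingCat.of Q := CommRingCat.ofHom (MvPolynomial.C)
  let ev : CommRingCat.of Q ⟶ Γ(V, ⊤) :=
    CommRingCat.ofHom (MvPolynomial.eval₂Hom m.appTop.hom fun x : {x // x ∈ F} => x.1)
  let z : Spec (CommRingCat.of Q) ⟶ U := Spec.map ι ≫ U.isoSpec.inv
  let a : V ⟶ Spec (CommRingCat.of Q) := V.isoSpec.hom ≫ Spec.map ev
  have hι : ι ≫ ev = m.appTop :=
    CommRingCat.hom_ext (RingHom.ext fun x => MvPolynomial.eval₂Hom_C _ _ x)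
  have ha : a ≫ z = m := by
    simp only [a, z, Category.assoc]
    rw [← Spec.map_comp_assoc, hι, Scheme.isoSpec_inv_naturality, Iso.hom_inv_id_assoc]
  have : LocallyOfFinitePresentation (Spec.map ι) := by
    rw [HasRingHomProperty.Spec_iff (P := @LocallyOfFinitePresentation)]
    show (MvPolynomial.C : Γ(U, ⊤) →+* Q).FinitePresentation
    rw [← MvPolynomial.algebraMap_eq, RingHom.finitePresentation_algebraMap]
    infer_instance
  refine ⟨Spec (CommRingCat.of Q), inferInstance, z, inferInstance, a, ha, ?_⟩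
  set κ : P ⟶ pullback ρ z := pullback.lift fst (snd ≫ a) (by rw [Category.assoc, ha, sq.w])
  show b ∈ κ.appTop.hom.range
  refine (Subring.closure_le.2 ?_) hF
  rintro _ (⟨c, rfl⟩ | ⟨x, hx, rfl⟩)
  · refine ⟨(pullback.fst ρ z).appTop c, ?_⟩
    rw [← CommRingCat.comp_apply, ← Scheme.Hom.comp_appTop, pullback.lift_fst]
  · refine ⟨(pullback.snd ρ z).appTop ((Scheme.ΓSpecIso _).inv (MvPolynomial.X (⟨x, hx⟩ : {y // y ∈ F}) : Q)), ?_⟩
    rw [← CommRingCat.comp_apply, ← Scheme.Hom.comp_appTop, pullback.lift_snd, Scheme.Hom.comp_appTop,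
      CommRingCat.comp_apply]
    congr 1
    have e : (Scheme.ΓSpecIso (CommRingCat.of Q)).inv ≫ a.appTop = ev := by
      simp only [a, Scheme.Hom.comp_appTop]
      rw [← Scheme.ΓSpecIso_inv_naturality_assoc, Scheme.isoSpec_hom, Scheme.toSpecΓ_appTop, Iso.inv_hom_id,
        Category.comp_id]
    refine (ConcreteCategory.congr_hom e _).trans ?_
    exact MvPolynomial.eval₂Hom_X' _ _ _

end

end Groth.AlgSp2.SepClosed
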