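import Groth.Agent.AlgSp2.SepClosed.Algebra

/-!
# Separating a closed set from a fibre at a finitely presented stage
-/

set_option autoImplicit false
universe u

open CategoryTheory CategoryTheory.Limits AlgebraicGeometry

namespace Groth.AlgSp2.SepClosed

noncomputable section

theorem mem_basicOpen_iff_notMem {P : Scheme.{u}} [IsAffine P] (f : Γ(P, ⊤)) (x : P) :
    x ∈ P.basicOpen f ↔ f ∉ (P.toSpecΓ x).asIdeal := by
  rw [← Scheme.toSpecΓ_preimage_basicOpen]
  rfl

variable {W V U : Scheme.{u}} [IsAffine W] [IsAffine V] [IsAffine U] (ρ : W ⟶ U) (m : V ⟶ U)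

/-- A closed subset of a fibre product missing the fibre over a point lies, after a finitely presented
stage, outside an open set which contains the whole fibre over the image point. -/
theorem exists_open_stage {P : Scheme.{u}} {fst : P ⟶ W} {snd : P ⟶ V} (sq : IsPullback fst snd ρ m)
    (v : V) (T : Set P) (hT : IsClosed T) (hv : ∀ x ∈ T, snd x ≠ v) :
    ∃ (Z : Scheme.{u}) (_ : IsAffine Z) (z : Z ⟶ U) (_ : LocallyOfFinitePresentation z)
      (a : V ⟶ Z) (ha : a ≫ z = m) (O : (pullback ρ z).Opens),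
      (∀ x ∈ T, (pullback.lift fst (snd ≫ a) (by rw [Category.assoc, ha, sq.w]) : P ⟶ pullback ρ z) x ∉ O) ∧
      ∀ y, pullback.snd ρ z y = a v → y ∈ O := by
  have : IsAffine P := .of_isPullback sq
  let e : P ≅ Spec Γ(P, ⊤) := P.isoSpec
  have hnat : ∀ x, ((P.toSpecΓ x).asIdeal.comap snd.appTop.hom) = (V.toSpecΓ (snd x)).asIdeal := by
    intro x
    have := congrArg (fun g : P ⟶ Spec Γ(V, ⊤) => g x) (Scheme.toSpecΓ_naturality snd)
    simp only [Scheme.Hom.comp_apply] at this
    exact (congrArg PrimeSpectrum.asIdeal this).symm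
  let hh : P ≃ₜ PrimeSpectrum Γ(P, ⊤) := Scheme.homeoOfIso e
  have hh' : ∀ x, hh x = P.toSpecΓ x := fun x => rfl
  have : (V.toSpecΓ v).asIdeal.IsPrime := (V.toSpecΓ v).2
  obtain ⟨j, hj₁, hj₂⟩ := exists_separating snd.appTop.hom (V.toSpecΓ v).asIdeal (hh '' T)
    (hh.isClosedMap T hT) (by
      rintro _ ⟨x, hx, rfl⟩ hq
      rw [hh', hnat] at hq
      exact hv x hx ((Scheme.homeoOfIso V.isoSpec).injective (PrimeSpectrum.ext hq)))
  obtain ⟨Z, hZ, z, hz, a, ha, b₀, hb⟩ := exists_stage ρ m sq j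
  refine ⟨Z, hZ, z, hz, a, ha, (pullback ρ z).basicOpen b₀, fun x hx hxO => ?_, fun y hy => ?_⟩
  · have : x ∈ P.basicOpen j := by
      rw [← hb, ← Scheme.preimage_basicOpen_top]
      exact hxO
    exact (mem_basicOpen_iff_notMem j x).1 this (hj₁ _ ⟨x, hx, rfl⟩)
  · set κ : P ⟶ pullback ρ z := pullback.lift fst (snd ≫ a) (by rw [Category.assoc, ha, sq.w])
    have sq' : IsPullback κ snd (pullback.snd ρ z) a :=
      IsPullback.of_right (by rw [pullback.lift_fst, ha]; exact sq) (pullback.lift_snd _ _ _)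
        (IsPullback.of_hasPullback ρ z)
    obtain ⟨w, hw₁, hw₂⟩ := Scheme.Pullback.exists_preimage_pullback y v hy
    obtain ⟨x, rfl, hx⟩ : ∃ x, κ x = y ∧ snd x = v := ⟨sq'.isoPullback.inv w,
      by rw [← Scheme.Hom.comp_apply, sq'.isoPullback_inv_fst]; exact hw₁,
      by rw [← Scheme.Hom.comp_apply, sq'.isoPullback_inv_snd]; exact hw₂⟩
    have hx' : x ∈ P.basicOpen j := (mem_basicOpen_iff_notMem j x).2
      (hj₂ (P.toSpecΓ x) (by rw [hnat, hx]))
    rw [← hb, ← Scheme.preimage_basicOpen_top] at hx'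
    exact hx'

end

end Groth.AlgSp2.SepClosed
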