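import Groth.Agent.AlgSp2.SepClosed.Fibre
import Groth.Agent.AlgSpBasic.Points
import Groth.Agent.AlgSpBasic.Compact
import Groth.Agent.AlgSpBasic.LocP
import Groth.Agent.AlgSpBasic.LocPInst
import Groth.Agent.AlgSpBasic.QComp

/-!
# Separating a point from the image of a closed set by a finitely presented stage
-/

set_option autoImplicit false
set_option backward.isDefEq.respectTransparency.types false
universe u

open CategoryTheory CategoryTheory.Limits AlgebraicGeometry Opposite AlgSp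

namespace Groth.AlgSp2.SepClosed

open Groth.AlgSpBasic

noncomputable section

variable {S : Scheme.{u}}

/-- An affine etale neighbourhood of a point mapping to an affine etale chart of the target. -/
theorem exists_affine_nbhd {Y Z : Sp S} (hY : IsAlgSpace Y) (hZ : IsAlgSpace Z) (g : Z ⟶ Y) (z : Points Z) :
    ∃ (U V : Over S) (_ : IsAffine U.left) (_ : IsAffine V.left) (p : (yon S).obj U ⟶ Y)
      (e : (yon S).obj V ⟶ Z) (m : V ⟶ U) (v : V.left),
      RepWith @Etale p ∧ RepWith @Etale e ∧ (yon S).map m ≫ p = e ≫ g ∧ Points.ofPt e v = z := by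
  obtain ⟨U₀, p₀, hp₀, hps₀⟩ := hY.atlas
  obtain ⟨V₀, e₀, m₀, he₀, hes₀, hc⟩ := exists_chart_over hZ hY.diag g p₀ hp₀ hps₀
  obtain ⟨v₀, hv₀⟩ := surjective_ofPt_of_repWith hes₀ z
  obtain ⟨A, hA, hmA, -⟩ := exists_isAffineOpen_mem_and_subset (U := ⊤) (Set.mem_univ (m₀.left v₀))
  obtain ⟨B, hB, hvB, hBA⟩ := exists_isAffineOpen_mem_and_subset (U := m₀.left ⁻¹ᵁ A) hmA
  let U : Over S := Over.mk (A.ι ≫ U₀.hom)
  let V : Over S := Over.mk (B.ι ≫ V₀.hom)
  let jU : U ⟶ U₀ := Over.homMk A.ι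
  let jV : V ⟶ V₀ := Over.homMk B.ι
  have hr : Set.range (jV ≫ m₀).left ⊆ Set.range jU.left := by
    rintro _ ⟨x, rfl⟩
    show m₀.left (B.ι x) ∈ Set.range A.ι
    rw [A.range_ι]
    exact hBA x.2
  have : IsOpenImmersion jU.left := inferInstanceAs (IsOpenImmersion A.ι)
  let l : V.left ⟶ U.left := IsOpenImmersion.lift jU.left (jV ≫ m₀).left hr
  have hl : l ≫ jU.left = (jV ≫ m₀).left := IsOpenImmersion.lift_fac _ _ _
  let m : V ⟶ U := Over.homMk l (by rw [← Over.w jU, ← Category.assoc, hl, Over.w (jV ≫ m₀)])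
  refine ⟨U, V, hA, hB, (yon S).map jU ≫ p₀, (yon S).map jV ≫ e₀, m, ⟨v₀, hvB⟩, ?_, ?_, ?_, ?_⟩
  · exact repWith_comp ((repWith_yon_map_iff _ jU).2 (inferInstanceAs (Etale A.ι))) hp₀
  · exact repWith_comp ((repWith_yon_map_iff _ jV).2 (inferInstanceAs (Etale B.ι))) he₀
  · rw [Category.assoc, hc, ← Category.assoc, ← Functor.map_comp, show m ≫ jU = jV ≫ m₀ from
      Over.OverMorphism.ext hl, Functor.map_comp, Category.assoc]
  · rw [ofPt_comp_yon]
    exact hv₀

/-- The chart of a fibre product induced by a chart of a larger fibre product. -/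
theorem exists_chart_pullback {XU U Z W Q : Over S} {P X Y : Sp S} {f : X ⟶ Y}
    {p : (yon S).obj U ⟶ Y} {F : Sp S} {x₁ : F ⟶ X} {x₂ : F ⟶ (yon S).obj U}
    (hF : IsPullback x₁ x₂ f p) {q : (yon S).obj W ⟶ F} {ρ : W ⟶ U}
    (hρ : q ≫ x₂ = (yon S).map ρ) {z : Z ⟶ U} {q₁ : P ⟶ X} {q₂ : P ⟶ (yon S).obj Z}
    (hP : IsPullback q₁ q₂ f ((yon S).map z ≫ p)) {fst : Q ⟶ W} {snd : Q ⟶ Z}
    (sq : IsPullback ((yon S).map fst) ((yon S).map snd) ((yon S).map ρ) ((yon S).map z)) :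
    ∃ (χ : (yon S).obj Q ⟶ P) (π : P ⟶ F), IsPullback ((yon S).map fst) χ q π ∧
      χ ≫ q₂ = (yon S).map snd ∧ χ ≫ q₁ = (yon S).map fst ≫ q ≫ x₁ ∧
      π ≫ x₁ = q₁ ∧ π ≫ x₂ = q₂ ≫ (yon S).map z := by
  let π : P ⟶ F := hF.lift q₁ (q₂ ≫ (yon S).map z) (by rw [Category.assoc]; exact hP.w)
  have hπ₁ : π ≫ x₁ = q₁ := hF.lift_fst _ _ _
  have hπ₂ : π ≫ x₂ = q₂ ≫ (yon S).map z := hF.lift_snd _ _ _
  have sqπ : IsPullback π q₂ x₂ ((yon S).map z) :=
    IsPullback.of_right (by rw [hπ₁]; exact hP) hπ₂ hF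
  let χ : (yon S).obj Q ⟶ P := sqπ.lift ((yon S).map fst ≫ q) ((yon S).map snd)
    (by rw [Category.assoc, hρ]; exact sq.w)
  have hχ₁ : χ ≫ π = (yon S).map fst ≫ q := sqπ.lift_fst _ _ _
  have hχ₂ : χ ≫ q₂ = (yon S).map snd := sqπ.lift_snd _ _ _
  refine ⟨χ, π, ?_, hχ₂, ?_, hπ₁, hπ₂⟩
  · exact IsPullback.of_bot (by rw [hρ, hχ₂]; exact sq) hχ₁.symm sqπ
  · rw [← hπ₁, ← Category.assoc, hχ₁, Category.assoc]

/-- A point outside the image of a closed set is separated from it after a finitely presented stage. -/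
theorem exists_stage_separating {X Y Z : AlgSp.Space S} (f : X ⟶ Y) (g : Z ⟶ Y)
    (hf : IsQuasiCompactMor f.hom)
    (P : Sp S) (p₁ : P ⟶ X.obj) (p₂ : P ⟶ Z.obj) (hP : IsPullback p₁ p₂ f.hom g.hom)
    (z : Points Z.obj) (T : Set (Points P)) (hT : IsClosed T) (hz : z ∉ Points.map p₂ '' T) :
    ∃ (V : Over S) (_ : IsAffine V.left) (e : (yon S).obj V ⟶ Z.obj) (_ : RepWith @Etale e)
      (v : ↥V.left) (_ : Points.map e (Points.schemeEquiv V v) = z)
      (Z' : Over S) (_ : IsAffine Z'.left) (b : (yon S).obj Z' ⟶ Y.obj)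
      (_ : LocP @LocallyOfFinitePresentation b)
      (a : V ⟶ Z') (_ : (yon S).map a ≫ b = e ≫ g.hom),
      ∀ (P' : Sp S) (q₁ : P' ⟶ X.obj) (q₂ : P' ⟶ (yon S).obj Z'), IsPullback q₁ q₂ f.hom b →
        ∃ T' : Set (Points P'), IsClosed T' ∧
          Points.schemeEquiv Z' (a.left v) ∉ Points.map q₂ '' T' ∧
          ∀ (PV : Sp S) (r₁ : PV ⟶ X.obj) (r₂ : PV ⟶ (yon S).obj V),
            IsPullback r₁ r₂ f.hom (e ≫ g.hom) →
            ∀ (κ₁ : PV ⟶ P) (κ₂ : PV ⟶ P'), κ₁ ≫ p₁ = r₁ → κ₁ ≫ p₂ = r₂ ≫ e → κ₂ ≫ q₁ = r₁ →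
              κ₂ ≫ q₂ = r₂ ≫ (yon S).map a →
              ∀ w : Points PV, Points.map κ₁ w ∈ T → Points.map κ₂ w ∈ T' := by
  obtain ⟨U, V, hU, hV, p, e, m, v, hp, he, hm, hv⟩ := exists_affine_nbhd Y.property Z.property g.hom z
  have hUs : IsAlgSpace ((yon S).obj U) := IsAlgSpace.yon_obj U
  let F := pullback f.hom p
  have hF : IsPullback (pullback.fst f.hom p) (pullback.snd f.hom p) f.hom p :=
    IsPullback.of_hasPullback _ _
  have hFa : IsAlgSpace F := isAlgSpace_of_isPullback hF Y.property.diag X.property hUs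
  have hFc : IsQuasiCompactSp F := hf hUs ((isQuasiCompactSp_yon_iff U).2 inferInstance) p _ _ hF
  obtain ⟨W, q, hW, hqe, hqs⟩ := exists_affine_chart hFa hFc
  obtain ⟨ρ, hρ⟩ := (yon S).map_surjective (q ≫ pullback.snd f.hom p)
  -- the fibre product over the neighbourhood
  let WV : Over S := Over.mk (pullback.fst ρ.left m.left ≫ W.hom)
  let fst : WV ⟶ W := Over.homMk (pullback.fst ρ.left m.left)
  let snd : WV ⟶ V := Over.homMk (pullback.snd ρ.left m.left) (by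
    show pullback.snd ρ.left m.left ≫ V.hom = pullback.fst ρ.left m.left ≫ W.hom
    rw [← Over.w m, ← Over.w ρ, pullback.condition_assoc])
  have hfs : fst ≫ ρ = snd ≫ m := Over.OverMorphism.ext pullback.condition
  let t : (yon S).obj WV ⟶ P := hP.lift ((yon S).map fst ≫ q ≫ pullback.fst f.hom p)
    ((yon S).map snd ≫ e) (by
      rw [Category.assoc, Category.assoc, pullback.condition, Category.assoc, ← Category.assoc q,
        ← hρ, ← Category.assoc, ← Functor.map_comp, hfs, Functor.map_comp, Category.assoc, hm])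
  obtain ⟨Zs, hZs, zs, hzs, as, has, O, hO₁, hO₂⟩ := exists_open_stage ρ.left m.left
    (IsPullback.of_hasPullback ρ.left m.left) v (Points.ofPt t ⁻¹' T) (hT.preimage (Points.continuous_ofPt t))
    (fun x hx hxv => hz ⟨_, hx, by
      rw [Points.map_ofPt, hP.lift_snd, ofPt_comp_yon]
      exact (congrArg (Points.ofPt e) hxv).trans hv⟩)
  let Z' : Over S := Over.mk (zs ≫ U.hom)
  let zz : Z' ⟶ U := Over.homMk zs
  let a : V ⟶ Z' := Over.homMk as (by
    show as ≫ zs ≫ U.hom = V.hom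
    rw [← Category.assoc, has, Over.w m])
  have haz : a ≫ zz = m := Over.OverMorphism.ext has
  have hb : LocP @LocallyOfFinitePresentation ((yon S).map zz ≫ p) :=
    locP_of_repWith (repWith_comp ((repWith_yon_map_iff _ zz).2 hzs)
      (repWith_mono (fun _ _ k (_ : Etale k) => (inferInstance : LocallyOfFinitePresentation k)) hp))
  refine ⟨V, hV, e, he, v, (ofPt_eq_map e v).symm.trans hv, Z', hZs, (yon S).map zz ≫ p, hb, a,
    by rw [← Category.assoc, ← Functor.map_comp, haz, hm], fun P' q₁ q₂ hP' => ?_⟩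
  let Q : Over S := Over.mk (pullback.fst ρ.left zs ≫ W.hom)
  let fst' : Q ⟶ W := Over.homMk (pullback.fst ρ.left zs)
  let snd' : Q ⟶ Z' := Over.homMk (pullback.snd ρ.left zs) (by
    show pullback.snd ρ.left zs ≫ zs ≫ U.hom = pullback.fst ρ.left zs ≫ W.hom
    rw [← pullback.condition_assoc, Over.w ρ])
  have sqQ : IsPullback ((yon S).map fst') ((yon S).map snd') ((yon S).map ρ) ((yon S).map zz) :=
    (IsPullback.of_map (f := fst') (g := snd') (h := ρ) (i := zz) (Over.forget S)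
      (Over.OverMorphism.ext pullback.condition) (IsPullback.of_hasPullback ρ.left zs)).map (yon S)
  obtain ⟨χ, π, sqχ, hχ₂, hχ₁, hπ₁, hπ₂⟩ :=
    exists_chart_pullback (XU := U) hF hρ.symm hP' sqQ
  have hχe : RepWith @Etale χ := repWith_of_isPullback sqχ hqe
  have hχs : RepWith @Surjective χ := repWith_of_isPullback sqχ hqs
  let O' : Set ↥Q.left := O.1
  have hO' : IsOpen O' := O.2
  refine ⟨(Points.ofPt χ '' O')ᶜ, ((isOpenMap_ofPt_of_etale hχe) _ hO').isClosed_compl, ?_, ?_⟩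
  · rintro ⟨w, hw, hwv⟩
    obtain ⟨y, rfl⟩ := surjective_ofPt_of_repWith hχs w
    rw [Points.map_ofPt, hχ₂, ofPt_eq_map] at hwv
    replace hwv := (Points.map_yon_map_apply snd' y).symm.trans hwv
    exact hw ⟨y, hO₂ y ((Points.schemeHomeo Z').injective hwv), rfl⟩
  intro PV r₁ r₂ hPV κ₁ κ₂ h₁ h₂ h₃ h₄ w hw ⟨y, hy, hyw⟩
  have hPV' : IsPullback r₁ r₂ f.hom ((yon S).map m ≫ p) := by rw [hm]; exact hPV
  have sqV : IsPullback ((yon S).map fst) ((yon S).map snd) ((yon S).map ρ) ((yon S).map m) :=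
    (IsPullback.of_map (f := fst) (g := snd) (h := ρ) (i := m) (Over.forget S) hfs
      (IsPullback.of_hasPullback ρ.left m.left)).map (yon S)
  obtain ⟨τ, πV, sqτ, hτ₂, hτ₁, hπV₁, hπV₂⟩ := exists_chart_pullback (XU := U) hF hρ.symm hPV' sqV
  let κ : WV ⟶ Q := Over.homMk (pullback.lift (pullback.fst ρ.left m.left)
    (pullback.snd ρ.left m.left ≫ as) (by rw [Category.assoc, has, pullback.condition])) (by
    show pullback.lift _ _ _ ≫ pullback.fst ρ.left zs ≫ W.hom = _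
    rw [pullback.lift_fst_assoc]
    rfl)
  have hκ₁ : κ ≫ fst' = fst := Over.OverMorphism.ext (pullback.lift_fst _ _ _)
  have hκ₂ : κ ≫ snd' = snd ≫ a := Over.OverMorphism.ext (pullback.lift_snd _ _ _)
  have hκπ : κ₂ ≫ π = πV := hF.hom_ext (by rw [Category.assoc, hπ₁, h₃, hπV₁])
    (by rw [Category.assoc, hπ₂, ← Category.assoc, h₄, Category.assoc, ← Functor.map_comp, haz, hπV₂])
  have hτκ : τ ≫ κ₂ = (yon S).map κ ≫ χ := hP'.hom_ext
    (by rw [Category.assoc, h₃, hτ₁, Category.assoc, hχ₁, ← Functor.map_comp_assoc, hκ₁])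
    (by rw [Category.assoc, h₄, ← Category.assoc, hτ₂, Category.assoc, hχ₂, ← Functor.map_comp,
      ← Functor.map_comp, hκ₂])
  have sqκ : IsPullback ((yon S).map κ) τ χ κ₂ :=
    IsPullback.of_right (by rw [← Functor.map_comp, hκ₁, hκπ]; exact sqτ) hτκ.symm sqχ
  obtain ⟨x, hx₁, hx₂⟩ := exists_point_of_isPullback sqκ (Points.schemeEquiv Q y) w
    ((ofPt_eq_map χ y).symm.trans hyw)
  obtain ⟨x, rfl⟩ := (Points.schemeEquiv WV).surjective x
  have hκx : κ.left x = y :=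
    (Points.schemeHomeo Q).injective ((Points.map_yon_map_apply κ x).symm.trans hx₁)
  have htτ : τ ≫ κ₁ = t := hP.hom_ext
    (by rw [Category.assoc, h₁, hτ₁, hP.lift_fst])
    (by rw [Category.assoc, h₂, ← Category.assoc, hτ₂, hP.lift_snd])
  refine hO₁ x ?_ (by rw [← hκx] at hy; exact hy)
  show Points.ofPt t x ∈ T
  rw [← htτ, ← Points.map_ofPt, ofPt_eq_map τ x]
  exact (congrArg (Points.map κ₁) hx₂).symm ▸ hw

end

end Groth.AlgSp2.SepClosed
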